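import Cfsg.Agent.Lib.Recog.CyclicTI.Trace

/-!
# The lower bound for the dimension of a faithful irreducible modular representation,
cyclic trivial intersection Sylow subgroup
-/

namespace CyclicTI

open Polynomial

section poly

variable {F A : Type*} [Field F] [Ring A] [Algebra F A]

lemma aeval_prod_congr {ι : Type*} (s : Finset ι) (c d : A) (f g : ι → F[X])
    (h : ∀ i ∈ s, aeval c (f i) = aeval d (g i)) :
    aeval c (∏ i ∈ s, f i) = aeval d (∏ i ∈ s, g i) := by
  classical
  induction s using Finset.induction_on with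
  | empty => simp
  | insert a t ha ih =>
    rw [Finset.prod_insert ha, Finset.prod_insert ha, map_mul, map_mul,
      h a (Finset.mem_insert_self _ _), ih fun i hi => h i (Finset.mem_insert_of_mem hi)]

lemma semiconj_aeval {r c d : A} (h : SemiconjBy r c d) (P : F[X]) :
    SemiconjBy r (aeval c P) (aeval d P) := by
  induction P using Polynomial.induction_on with
  | C a => simp only [aeval_C]; exact (Algebra.commutes a r).symm
  | add P Q hP hQ => simp only [map_add]; exact hP.add_right hQ
  | monomial n a _ =>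
    simp only [map_mul, map_pow, aeval_C, aeval_X]
    exact SemiconjBy.mul_right (Algebra.commutes a r).symm (h.pow_right _)

end poly

variable {G : Type*} [Group G] [Finite G] {p : ℕ} [hp : Fact p.Prime]

/-- A transfer argument: the main bound. -/
theorem dim_lower_bound (P : Sylow p G) (hcyc : IsCyclic P) {n : ℕ} (hn : 2 ≤ n)
    (hPn : Nat.card P = p ^ n)
    (hTI : ∀ Q : Sylow p G, Q ≠ P → (P : Subgroup G) ⊓ (Q : Subgroup G) = ⊥)
    {F : Type*} [Field F] [CharP F p] {V : Type*} [AddCommGroup V] [Module F V]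
    [FiniteDimensional F V] (ρ : Representation F G V) (hfaith : Function.Injective ρ)
    (hsimple : ∀ W : Submodule F V, (∀ g : G, ∀ v ∈ W, ρ g v ∈ W) → W = ⊥ ∨ W = ⊤) :
    p ^ n - (p - 1) ≤ Module.finrank F V := by
  classical
  haveI := Fintype.ofFinite G
  by_contra hd
  have hp2 := hp.out.two_le
  set q := p ^ n with hq
  obtain ⟨x0, hx0⟩ := hcyc.exists_generator
  set x : G := (x0 : G) with hx
  have hordx : orderOf x = q := by
    rw [hx, Subgroup.orderOf_coe, orderOf_eq_card_of_forall_mem_zpowers hx0, hPn]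
  have hxq : x ^ q = 1 := by rw [← hordx]; exact pow_orderOf_eq_one x
  have hmemP : ∀ g : G, g ∈ (P : Subgroup G) ↔ ∃ j, j < q ∧ x ^ j = g := by
    intro g
    constructor
    · intro hg
      obtain ⟨j, hj⟩ := (mem_powers_iff_mem_zpowers.mpr (hx0 ⟨g, hg⟩))
      refine ⟨j % q, Nat.mod_lt _ (pow_pos hp.out.pos n), ?_⟩
      rw [← hordx, pow_mod_orderOf, hx, ← SubmonoidClass.coe_pow]
      exact congrArg Subtype.val hj
    · rintro ⟨j, -, rfl⟩
      exact pow_mem x0.2 j
  set X : Module.End F V := ρ x with hX
  set u : Module.End F V := X - 1 with hu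
  have hXq : X ^ q = 1 := by rw [hX, ← map_pow, hxq, map_one]
  have huq : u ^ q = 0 := sub_one_pow_eq_zero F hXq
  have hnil : IsNilpotent u := ⟨q, huq⟩
  have hd0 : u ^ Module.finrank F V = 0 := by
    have h1 := (LinearMap.charpoly_nilpotent_tfae u).out 0 3
    have := u.aeval_self_charpoly
    rw [IsNilpotent.charpoly_eq_X_pow_finrank hnil] at this
    simpa using this
  have hex : ∃ k, u ^ k = 0 := ⟨q, huq⟩
  set k := Nat.find hex with hkdef
  have hk : u ^ k = 0 := Nat.find_spec hex
  have hkd : k ≤ Module.finrank F V := Nat.find_min' hex hd0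
  have hkbig : p ^ (n - 1) < k := by
    by_contra hc
    have h0 : u ^ (p ^ (n - 1)) = 0 := pow_eq_zero_of_le (not_lt.mp hc) hk
    have h1 : ((Polynomial.X : F[X]) - 1) ^ (p ^ (n - 1)) = Polynomial.X ^ (p ^ (n - 1)) - 1 := by
      rw [sub_pow_char_pow, one_pow]
    have h2 := congrArg (Polynomial.aeval X) h1
    simp [← hu, h0] at h2
    have h3 : X ^ (p ^ (n - 1)) = 1 := sub_eq_zero.mp h2.symm
    rw [hX, ← map_pow] at h3
    have h4 : x ^ (p ^ (n - 1)) = 1 := hfaith (by rw [h3, map_one])
    have h5 := orderOf_dvd_of_pow_eq_one h4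
    rw [hordx, hq, Nat.pow_dvd_pow_iff_le_right hp.out.one_lt] at h5
    omega
  have hpk : p < k := lt_of_le_of_lt (Nat.le_self_pow (by omega) p) hkbig
  set N : Subgroup G := Subgroup.normalizer ((P : Subgroup G) : Set G) with hN
  set φ := Subgroup.normalizerMonoidHom (P : Subgroup G) with hφ
  set A := φ.range with hA
  haveI : Finite A := Finite.of_surjective φ.rangeRestrict φ.rangeRestrict_surjective
  haveI := Fintype.ofFinite A
  set e := Fintype.card A with hedef
  have he1 : 1 ≤ e := Fintype.card_pos
  have hep : e ≤ p - 1 := by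
    have hcardA : Nat.card A = φ.ker.index := (Subgroup.index_ker φ).symm
    have hle : (P : Subgroup G).subgroupOf N ≤ φ.ker := by
      rw [hφ, Subgroup.normalizerMonoidHom_ker]
      intro y hy
      have hy' : (y : G) ∈ (P : Subgroup G) := Subgroup.mem_subgroupOf.mp hy
      rw [Subgroup.mem_subgroupOf, Subgroup.mem_centralizer_iff]
      intro z hz
      exact congrArg Subtype.val (mul_comm' (⟨z, hz⟩ : P) ⟨y, hy'⟩)
    have hdvd : Nat.card A ∣ ((P : Subgroup G).subgroupOf N).index := by
      rw [hcardA]; exact Subgroup.index_dvd_of_le hle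
    have hnp : ¬ p ∣ ((P : Subgroup G).subgroupOf N).index := fun h =>
      P.not_dvd_index' (fun h0 => (Subgroup.index_ne_zero_of_finite h0))
        (h.trans (Subgroup.relIndex_dvd_index_of_le Subgroup.le_normalizer))
    have h1 : Nat.card A ∣ Nat.card (MulAut P) := Subgroup.card_subgroup_dvd_card _
    rw [IsCyclic.card_mulAut, hPn, Nat.totient_prime_pow hp.out (by omega)] at h1
    have h2 : Nat.Coprime (Nat.card A) (p ^ (n - 1)) :=
      ((hp.out.coprime_iff_not_dvd.mpr fun h => hnp (h.trans hdvd)).symm).pow_right _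
    have h3 := h2.dvd_of_dvd_mul_left h1
    rw [hedef, ← Nat.card_eq_fintype_card]
    exact Nat.le_of_dvd (by omega) h3
  have hek : e < k := by omega
  set s := q - k with hs
  have hkq : k ≤ q := by omega
  have hes : e < s := by omega
  -- exponents
  have haex : ∀ α : A, ∃ j, j < q ∧ x ^ j = (((α : MulAut P) x0 : P) : G) :=
    fun α => (hmemP _).mp ((α : MulAut P) x0).2
  choose a halt haeq using haex
  have hanz : ∀ α : A, (a α : F) ≠ 0 := by
    intro α h0
    rw [CharP.cast_eq_zero_iff F p] at h0
    obtain ⟨c, hc⟩ := h0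
    have ho : orderOf (x ^ a α) = q := by
      rw [haeq, Subgroup.orderOf_coe, MulEquiv.orderOf_eq, ← Subgroup.orderOf_coe, ← hx, hordx]
    have h1 : (x ^ a α) ^ (p ^ (n - 1)) = 1 := by
      rw [← pow_mul, hc, mul_comm p c, mul_assoc, mul_comm c, pow_mul, ← pow_succ',
        Nat.sub_add_cancel (by omega : 1 ≤ n), ← hq, hxq, one_pow]
    have h2 := orderOf_dvd_of_pow_eq_one h1
    rw [ho, hq, Nat.pow_dvd_pow_iff_le_right hp.out.one_lt] at h2
    omega
  set T : A → F[X] := fun α => Polynomial.X ^ a α - 1 with hT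
  set f : Module.End F V := aeval X (∏ α, T α) with hf
  -- `f` is `u ^ e` times a unit
  set W : F[X] := ∏ α, ∑ j ∈ Finset.range (a α), (Polynomial.X : F[X]) ^ j with hW
  have hfu : f = u ^ e * aeval X W := by
    have : (∏ α, T α) = (Polynomial.X - 1) ^ e * W := by
      rw [hedef, ← Finset.card_univ, ← Finset.prod_const, hW, ← Finset.prod_mul_distrib]
      exact Finset.prod_congr rfl fun α _ => by rw [hT, mul_comm, geom_sum_mul]
    rw [hf, this, map_mul]
    simp [hu]
  obtain ⟨W', hW'⟩ : ∃ W' : Module.End F V, aeval X W * W' = 1 := by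
    have hW1 : Polynomial.eval 1 W ≠ 0 := by
      rw [hW, Polynomial.eval_prod]
      refine Finset.prod_ne_zero_iff.mpr fun α _ => ?_
      simpa [Polynomial.eval_finsetSum] using hanz α
    have hcop : IsCoprime (Polynomial.X - Polynomial.C (1 : F)) W :=
      (Polynomial.irreducible_X_sub_C 1).coprime_iff_not_dvd.mpr fun hdv =>
        hW1 (Polynomial.dvd_iff_isRoot.mp hdv)
    obtain ⟨c, d, hcd⟩ := (hcop.pow_left (m := k)).symm
    refine ⟨aeval X c, ?_⟩
    have := congrArg (aeval X) hcd
    rw [← map_mul, mul_comm W c]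
    simpa [← hu, hk] using this
  -- `f` commutes with the normalizer
  have hfN : ∀ y ∈ N, ρ y * f * ρ y⁻¹ = f := by
    intro y hy
    set β : A := ⟨φ ⟨y, hy⟩, ⟨_, rfl⟩⟩ with hβ
    obtain ⟨b, -, hb⟩ := (hmemP _).mp ((β : MulAut P) x0).2
    have hb' : x ^ b = y * x * y⁻¹ := by
      rw [hb, hβ]; simp only [hφ, hx]; rfl
    have hsc : SemiconjBy (ρ y) X (X ^ b) := by
      show ρ y * X = X ^ b * ρ y
      rw [hX, ← map_pow, ← map_mul, ← map_mul, hb', inv_mul_cancel_right]
    have h1 : ρ y * f = aeval (X ^ b) (∏ α, T α) * ρ y := semiconj_aeval hsc _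
    have h2 : aeval (X ^ b) (∏ α, T α) = f := by
      rw [hf]
      rw [aeval_prod_congr Finset.univ (X ^ b) X T (fun α => T (β * α)) ?_]
      · exact congrArg _ (Equiv.prod_comp (Equiv.mulLeft β) T)
      · intro α _
        simp only [hT, map_sub, map_pow, aeval_X, map_one]
        rw [hX, ← map_pow, ← map_pow, ← map_pow, haeq]
        congr 2
        show (x ^ b) ^ a α = (((β : MulAut P) ((α : MulAut P) x0) : P) : G)
        rw [hb]
        have : (α : MulAut P) x0 = x0 ^ a α := Subtype.ext (by rw [SubmonoidClass.coe_pow, ← hx, haeq])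
        rw [this, map_pow, SubmonoidClass.coe_pow]
    rw [h1, h2, mul_assoc, ← map_mul, mul_inv_cancel, map_one, mul_one]
  -- the transfer
  set Φ : G ⧸ N → Module.End F V := fun c => ρ c.out * f * ρ c.out⁻¹ with hΦ
  have hΦmk : ∀ g : G, Φ (g : G ⧸ N) = ρ g * f * ρ g⁻¹ := by
    intro g
    obtain ⟨z, hz⟩ := QuotientGroup.mk_out_eq_mul N g
    simp only [hΦ]
    rw [hz, mul_inv_rev, map_mul, map_mul]
    have := hfN z z.2
    calc ρ g * ρ (z : G) * f * (ρ (z : G)⁻¹ * ρ g⁻¹)
        = ρ g * (ρ (z : G) * f * ρ (z : G)⁻¹) * ρ g⁻¹ := by simp only [mul_assoc]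
      _ = _ := by rw [this]
  have hΦsmul : ∀ (g : G) (c : G ⧸ N), Φ (g • c) = ρ g * Φ c * ρ g⁻¹ := by
    intro g c
    induction c using QuotientGroup.induction_on with
    | H z =>
      rw [MulAction.Quotient.smul_coe, hΦmk, hΦmk, smul_eq_mul, mul_inv_rev, map_mul, map_mul]
      simp only [mul_assoc]
  haveI := Fintype.ofFinite (G ⧸ N)
  set Tot : Module.End F V := ∑ c, Φ c with hTot
  have hTotG : ∀ g : G, ρ g * Tot * ρ g⁻¹ = Tot := by
    intro g
    rw [hTot, Finset.mul_sum, Finset.sum_mul]
    simp only [← hΦsmul]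
    exact Equiv.sum_comp (MulAction.toPerm g) Φ
  -- free action of `P` on the non-trivial cosets
  set one : G ⧸ N := ((1 : G) : G ⧸ N) with hone
  have hfree : ∀ (y : G), y ∈ (P : Subgroup G) → ∀ c : G ⧸ N, c ≠ one → y • c = c → y = 1 := by
    intro y hy c hc hyc
    induction c using QuotientGroup.induction_on with
    | H z =>
      have hz : z ∉ N := fun hz => hc (by rw [hone, QuotientGroup.eq]; simpa using N.inv_mem hz)
      rw [MulAction.Quotient.smul_coe, QuotientGroup.eq, smul_eq_mul] at hyc
      have hne : z • P ≠ P := fun h => hz (Sylow.smul_eq_iff_mem_normalizer.mp h)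
      have hQ := hTI _ hne
      have hyN : z⁻¹ * y * z ∈ N := by
        have := N.inv_mem hyc
        simpa [mul_assoc] using this
      have hyP : z⁻¹ * y * z ∈ (P : Subgroup G) := by
        obtain ⟨j, -, rfl⟩ := (hmemP y).mp hy
        have hpg : IsPGroup p (Subgroup.zpowers (z⁻¹ * x ^ j * z)) := by
          apply IsPGroup.of_card (n := (orderOf (z⁻¹ * x ^ j * z)).factorization p)
          rw [Nat.card_zpowers]
          have hd' : orderOf (z⁻¹ * x ^ j * z) ∣ p ^ n := by
            apply orderOf_dvd_of_pow_eq_one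
            rw [show z⁻¹ * x ^ j * z = z⁻¹ * x ^ j * (z⁻¹)⁻¹ by simp, conj_pow, ← pow_mul,
              mul_comm, pow_mul, ← hq, hxq, one_pow]
            simp
          obtain ⟨i, -, hi⟩ := (Nat.dvd_prime_pow hp.out).mp hd'
          rw [hi, Nat.factorization_pow_self hp.out]
        have h1 : Subgroup.zpowers (z⁻¹ * x ^ j * z) ≤
            Subgroup.zpowers (z⁻¹ * x ^ j * z) ⊓ Subgroup.normalizer ((P : Subgroup G) : Set G) :=
          le_inf le_rfl (Subgroup.zpowers_le.mpr hyN)
        exact ((hpg.inf_normalizer_sylow P).le (h1 (Subgroup.mem_zpowers _))).2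
      have : y ∈ (P : Subgroup G) ⊓ ((z • P : Sylow p G) : Subgroup G) := by
        refine ⟨hy, ?_⟩
        show y ∈ ((z • P : Sylow p G) : Subgroup G)
        rw [Sylow.coe_subgroup_smul, Subgroup.mem_pointwise_smul_iff_inv_smul_mem]
        simpa [MulAut.smul_def] using hyP
      rwa [hQ, Subgroup.mem_bot] at this
  -- the sum over the other cosets lies in the image of `u ^ s`
  set R : Submodule F (Module.End F V) := LinearMap.range (LinearMap.mulLeft F (u ^ s)) with hR
  have hrest : ∑ c ∈ Finset.univ.filter (fun c => c ≠ one), Φ c ∈ R := by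
    set S := Finset.univ.filter (fun c : G ⧸ N => c ≠ one) with hS
    let r : Setoid (G ⧸ N) := MulAction.orbitRel (P : Subgroup G) (G ⧸ N)
    rw [Finset.sum_partition r]
    refine Submodule.sum_mem _ fun ω hω => ?_
    induction ω using Quotient.inductionOn with
    | h c =>
      have hc : c ≠ one := by
        obtain ⟨c', hc', hcc⟩ := Finset.mem_image.mp hω
        obtain ⟨g, hg⟩ := Quotient.exact hcc
        intro h
        apply (Finset.mem_filter.mp hc').2
        rw [← hg, h, hone]
        show ((g : G) • ((1 : G) : G ⧸ N)) = _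
        rw [MulAction.Quotient.smul_coe, QuotientGroup.eq, smul_eq_mul, mul_one, mul_one]
        exact N.inv_mem (Subgroup.le_normalizer g.2)
      have hset : (S.filter fun d => Quotient.mk r d = Quotient.mk r c) =
          (Finset.range q).image (fun j => x ^ j • c) := by
        ext d
        simp only [Finset.mem_filter, Finset.mem_image, Finset.mem_range, hS, Finset.mem_univ,
          true_and]
        constructor
        · rintro ⟨-, h⟩
          obtain ⟨g, hg⟩ := Quotient.exact h
          obtain ⟨j, hj, hjg⟩ := (hmemP g).mp g.2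
          exact ⟨j, hj, by rw [← hg, hjg]; rfl⟩
        · rintro ⟨j, -, rfl⟩
          refine ⟨fun h => hc ?_, Quotient.sound ⟨⟨x ^ j, pow_mem x0.2 j⟩, rfl⟩⟩
          have h' := congrArg (fun d => (x ^ j)⁻¹ • d) h
          simp only [inv_smul_smul] at h'
          rw [h', hone, MulAction.Quotient.smul_coe, QuotientGroup.eq, smul_eq_mul, mul_one,
            mul_one, inv_inv]
          exact Subgroup.le_normalizer (pow_mem x0.2 j)
      rw [hset, Finset.sum_image]
      · simp only [hΦsmul, map_pow, ← inv_pow]
        rw [← hX]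
        obtain ⟨z, hz⟩ := trace_eq F (p := p) X (ρ x⁻¹)
          (by rw [hX, ← map_mul, mul_inv_cancel, map_one]) (Φ c) hk hkq
        exact ⟨z, hz.symm⟩
      · intro i hi j hj hij
        simp only [Finset.coe_range, Set.mem_Iio] at hi hj
        by_contra hne
        have key : ∀ i j : ℕ, i < j → j < q → x ^ i • c = x ^ j • c → False := by
          intro i j hlt hjq h
          have h' : x ^ (j - i) • c = c := by
            apply MulAction.injective (x ^ i)
            show x ^ i • x ^ (j - i) • c = x ^ i • c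
            rw [← mul_smul, ← pow_add, Nat.add_sub_cancel' hlt.le, h]
          have := orderOf_dvd_of_pow_eq_one (hfree _ (pow_mem x0.2 _) c hc h')
          rw [hordx] at this
          have := Nat.le_of_dvd (by omega) this
          omega
        rcases lt_or_gt_of_ne hne with h | h
        · exact key i j h hj hij
        · exact key j i h hi hij.symm
  have hTsplit : Tot = f + ∑ c ∈ Finset.univ.filter (fun c => c ≠ one), Φ c := by
    rw [hTot, ← Finset.add_sum_erase Finset.univ Φ (Finset.mem_univ one)]
    congr 1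
    · rw [hone, hΦmk]; simp
    · exact Finset.sum_congr (by ext; simp) fun _ _ => rfl
  obtain ⟨z, hz⟩ := LinearMap.mem_range.mp hrest
  rw [LinearMap.mulLeft_apply] at hz
  -- `Tot` is not surjective, hence zero
  have hTot0 : Tot = 0 := by
    have hinv : ∀ g : G, ∀ v ∈ LinearMap.ker Tot, ρ g v ∈ LinearMap.ker Tot := by
      intro g v hv
      rw [LinearMap.mem_ker] at hv ⊢
      have h := congrArg (fun L : Module.End F V => L (ρ g v)) (hTotG g)
      simp only [Module.End.mul_apply, Representation.inv_self_apply] at h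
      rw [← h, hv, map_zero]
    rcases hsimple _ hinv with h | h
    · exfalso
      have hsurj : Function.Surjective Tot :=
        LinearMap.injective_iff_surjective.mp (LinearMap.ker_eq_bot.mp h)
      have hfac : Tot = u * (u ^ (e - 1) * aeval X W + u ^ (s - 1) * z) := by
        rw [hTsplit, ← hz, hfu, mul_add, ← mul_assoc, ← mul_assoc, ← pow_succ', ← pow_succ',
          Nat.sub_add_cancel he1, Nat.sub_add_cancel (by omega : 1 ≤ s)]
      have husurj : Function.Surjective u := by
        intro v
        obtain ⟨w, hw⟩ := hsurj v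
        rw [hfac] at hw
        exact ⟨_, hw⟩
      have : Function.Surjective (u ^ k) := by
        rw [Module.End.coe_pow]; exact husurj.iterate k
      rw [hk] at this
      have hV : ∀ v : V, v = 0 := fun v => by
        obtain ⟨w, hw⟩ := this v
        simpa using hw.symm
      have h1 : X = 1 := LinearMap.ext fun v => by rw [hV (X v), hV ((1 : Module.End F V) v)]
      have hx1 : x = 1 := hfaith (by rw [map_one]; exact h1)
      rw [hx1, orderOf_one] at hordx
      have : 1 < q := Nat.one_lt_pow (by omega) hp.out.one_lt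
      omega
    · exact LinearMap.ker_eq_top.mp h
  rw [hTot0, ← hz, hfu] at hTsplit
  have hue : u ^ e = -(u ^ s * z * W') := by
    have := congrArg (fun L => L * W') (eq_neg_of_add_eq_zero_left hTsplit.symm)
    simp only [mul_assoc, hW', mul_one, neg_mul] at this
    rw [this]; simp [mul_assoc]
  have hlast : u ^ (k - 1) = 0 := by
    rw [show k - 1 = (k - 1 - e) + e by omega, pow_add, hue, mul_neg, ← mul_assoc, ← mul_assoc,
      ← pow_add, pow_eq_zero_of_le (by omega) hk]
    simp
  exact absurd hlast (Nat.find_min hex (by omega))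

end CyclicTI
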