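import Mathlib

/-!
# Cyclic trivial intersection Sylow subgroups and small modular representations: linear algebra

Facts on a unipotent operator `X` of order dividing `p ^ n` in characteristic `p`.
-/

namespace CyclicTI

open Polynomial

lemma geom_eq_sub_one_pow {F : Type*} [Field F] {p : ℕ} [Fact p.Prime] [CharP F p] (n : ℕ) :
    ∑ j ∈ Finset.range (p ^ n), (Polynomial.X : F[X]) ^ j = (Polynomial.X - 1) ^ (p ^ n - 1) := by
  have hq : 0 < p ^ n := pow_pos (Fact.out : p.Prime).pos n
  have hne : (Polynomial.X - 1 : F[X]) ≠ 0 := by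
    rw [← map_one (Polynomial.C (R := F))]
    exact Polynomial.X_sub_C_ne_zero 1
  apply mul_right_cancel₀ hne
  rw [geom_sum_mul, ← pow_succ, Nat.sub_add_cancel hq, sub_pow_char_pow, one_pow]

section
variable (F : Type*) {A : Type*} [Field F] [Ring A] [Algebra F A] {p : ℕ} [Fact p.Prime] [CharP F p]
include F

lemma sum_pow_eq (c : A) (n : ℕ) :
    ∑ j ∈ Finset.range (p ^ n), c ^ j = (c - 1) ^ (p ^ n - 1) := by
  simpa using congrArg (Polynomial.aeval c) (geom_eq_sub_one_pow (F := F) (p := p) n)

lemma sub_one_pow_eq_zero {c : A} {n : ℕ} (hc : c ^ (p ^ n) = 1) : (c - 1) ^ (p ^ n) = 0 := by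
  have h : ((Polynomial.X : F[X]) - 1) ^ (p ^ n) = Polynomial.X ^ (p ^ n) - 1 := by
    rw [sub_pow_char_pow, one_pow]
  have := congrArg (Polynomial.aeval c) h
  simpa [hc] using this

/-- The trace over the cyclic group generated by `x` of an operator. -/
lemma trace_eq (x y : A) (hxy : x * y = 1) (h : A) {n k : ℕ}
    (hk : (x - 1) ^ k = 0) (hkq : k ≤ p ^ n) :
    ∃ z : A, ∑ j ∈ Finset.range (p ^ n), x ^ j * h * y ^ j = (x - 1) ^ (p ^ n - k) * z := by
  classical
  set L : Module.End F A := LinearMap.mulLeft F x with hLdef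
  set R : Module.End F A := LinearMap.mulRight F y with hRdef
  have hLR : Commute L R := LinearMap.commute_mulLeft_right (R := F) x y
  have hC : ∀ j, x ^ j * h * y ^ j = ((L * R) ^ j) h := by
    intro j
    rw [hLR.mul_pow, hLdef, hRdef, LinearMap.pow_mulLeft, LinearMap.pow_mulRight]
    simp [mul_assoc]
  simp only [hC]
  rw [← LinearMap.sum_apply, sum_pow_eq F (p := p)]
  have hsplit : L * R - 1 = (L - 1) * R + (R - 1) := by rw [sub_mul, one_mul]; abel
  have hcom : Commute ((L - 1) * R) (R - 1) :=
    ((((hLR.sub_left (Commute.one_left R))).mul_left (Commute.refl R))).sub_right (Commute.one_right _)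
  rw [hsplit, hcom.add_pow, LinearMap.sum_apply]
  set W : Submodule F A := LinearMap.range (LinearMap.mulLeft F ((x - 1) ^ (p ^ n - k))) with hW
  suffices hmem : (∑ i ∈ Finset.range (p ^ n - 1 + 1),
      (((L - 1) * R) ^ i * (R - 1) ^ (p ^ n - 1 - i) *
        (((p ^ n - 1).choose i : ℕ) : Module.End F A)) h) ∈ W by
    obtain ⟨z, hz⟩ := LinearMap.mem_range.mp hmem
    exact ⟨z, hz.symm⟩
  refine Submodule.sum_mem _ fun i hi => ?_
  have hL1 : L - 1 = LinearMap.mulLeft F (x - 1) := by
    ext a; simp [hLdef, sub_mul]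
  have hR1 : R - 1 = LinearMap.mulRight F (y - 1) := by
    ext a; simp [hRdef, mul_sub]
  rw [Module.End.mul_apply, Module.End.mul_apply]
  rcases le_or_gt (p ^ n - k) i with hi' | hi'
  · have hcomL : Commute (L - 1) R := hLR.sub_left (Commute.one_left R)
    rw [hcomL.mul_pow, Module.End.mul_apply, hL1, LinearMap.pow_mulLeft, LinearMap.mulLeft_apply,
      hW]
    rw [← Nat.add_sub_cancel' hi', pow_add, mul_assoc]
    exact ⟨_, rfl⟩
  · have hy : (y - 1) ^ k = 0 := by
      have he : x * (y - 1) = -(x - 1) := by rw [mul_sub, hxy, mul_one]; abel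
      have hinv : IsUnit x := by
        have hxq : x ^ (p ^ n) = 1 := by
          have := congrArg (Polynomial.aeval x)
            (show ((Polynomial.X : F[X]) - 1) ^ (p ^ n) = Polynomial.X ^ (p ^ n) - 1 by
              rw [sub_pow_char_pow, one_pow])
          simp at this
          have h0 : (x - 1) ^ (p ^ n) = 0 := by
            rw [← Nat.sub_add_cancel hkq, pow_add, hk, mul_zero]
          rw [h0] at this
          exact sub_eq_zero.mp this.symm
        exact IsUnit.of_pow_eq_one hxq (pow_pos (Fact.out : p.Prime).pos n).ne'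
      have hyx' : y * x = 1 := by
        obtain ⟨u, rfl⟩ := hinv
        rw [← Units.inv_eq_of_mul_eq_one_right hxy]
        exact u.inv_mul
      have hcm : Commute x (y - 1) := by
        show x * (y - 1) = (y - 1) * x
        rw [mul_sub, sub_mul, hxy, hyx', mul_one, one_mul]
      have := congrArg (fun a => a ^ k) he
      rw [hcm.mul_pow, neg_pow, hk, mul_zero] at this
      exact ((hinv.pow k).mul_right_eq_zero).mp this
    have hj : k ≤ p ^ n - 1 - i := by omega
    rw [hR1, LinearMap.pow_mulRight, LinearMap.mulRight_apply, ← Nat.add_sub_cancel' hj,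
      pow_add, hy, zero_mul, mul_zero, map_zero]
    exact W.zero_mem

end

end CyclicTI
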